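import Cfsg.Agent.H634.CaseBDef
import Cfsg.Agent.H634.HypS
import Cfsg.Agent.H686.K4.Integral
import Cfsg.Agent.H649.Transport
import Cfsg.Agent.Characters.GaloisBasic
import Cfsg.Agent.Characters.SchurBound

/-!
# T13b of S4615: the generalized decomposition numbers are rational integers (helper667)
-/

set_option autoImplicit false
set_option linter.style.haveILetI false

namespace Cfsg.Agent.H667.K4

open Cfsg
open Cfsg.Agent.Characters.Core
open Cfsg.Agent.H634.Fus Cfsg.Agent.H634.HypS

universe u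

/-- an automorphism acting on the span of `1` and `ξ` fixes `ξ` -/
theorem comp_eq {C : Type u} [Group C] [Finite C] {p : ℕ} (e : MulAut C) {ξ : C → ℂ} (hξ : IsCharacter C ξ)
    {m k : ℤ} (h : ∀ c : C, ¬ p ∣ orderOf c → ξ (e c) = m + k * ξ c)
    (hne : ∃ c, ¬ p ∣ orderOf c ∧ ξ c ≠ ξ 1) : ∀ c, ¬ p ∣ orderOf c → ξ (e c) = ξ c := by
  obtain ⟨c₀, hc₀, hne⟩ := hne
  have hord : ∀ (f : MulAut C) (c : C), orderOf (f c) = orderOf c := fun f c =>
    orderOf_injective (f : C ≃* C).toMonoidHom f.injective c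
  have h1reg : ¬ p ∣ orderOf (1 : C) ∨ p = 1 := by
    by_cases hp : p = 1
    · exact Or.inr hp
    · left
      rw [orderOf_one, Nat.dvd_one]
      exact hp
  have h1 : ¬ p ∣ orderOf (1 : C) := by
    rcases h1reg with h2 | h2
    · exact h2
    · exact absurd (h2 ▸ one_dvd _) hc₀
  have hpow : ∀ j : ℕ, ∃ mj : ℂ, ∀ c : C, ¬ p ∣ orderOf c → ξ ((e ^ j) c) = mj + (k : ℂ) ^ j * ξ c := by
    intro j
    induction j with
    | zero => exact ⟨0, fun c _ => by simp⟩
    | succ j ih =>
      obtain ⟨mj, hj⟩ := ih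
      refine ⟨mj + (k : ℂ) ^ j * m, fun c hc => ?_⟩
      have h2 : (e ^ (j + 1)) c = (e ^ j) (e c) := by rw [pow_succ]; rfl
      rw [h2, hj (e c) (by rwa [hord]), h c hc, pow_succ]
      ring
  haveI : Finite (MulAut C) := Finite.of_injective (fun f : MulAut C => (f : C → C)) DFunLike.coe_injective
  obtain ⟨mN, hN⟩ := hpow (orderOf e)
  have hN1 := hN 1 h1
  have hN0 := hN c₀ hc₀
  rw [pow_orderOf_eq_one, MulAut.one_apply] at hN1 hN0
  have hk : (k : ℂ) ^ orderOf e = 1 := by
    have h3 : (ξ c₀ - ξ 1) * ((k : ℂ) ^ orderOf e - 1) = 0 := by linear_combination hN1 - hN0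
    rcases mul_eq_zero.1 h3 with h4 | h4
    · exact absurd (sub_eq_zero.1 h4) hne
    · exact sub_eq_zero.1 h4
  have hk' : k ^ orderOf e = 1 := by exact_mod_cast hk
  have hk2 : k = 1 ∨ k = -1 := by
    have h3 : IsUnit k := IsUnit.of_pow_eq_one hk' (orderOf_pos e).ne'
    exact Int.isUnit_iff.1 h3
  have h3 := h 1 h1
  rw [map_one] at h3
  rcases hk2 with hk2 | hk2
  · subst hk2
    have h4 : (m : ℂ) = 0 := by push_cast at h3; linear_combination -h3
    intro c hc
    rw [h c hc, h4]; push_cast; ring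
  · exfalso
    subst hk2
    have h4 : (m : ℂ) = 2 * ξ 1 := by push_cast at h3; linear_combination -h3
    obtain ⟨d, ρ, rfl⟩ := id hξ
    have hd : ρ.character 1 = ((Module.finrank ℂ (Fin d → ℂ) : ℕ) : ℂ) := Representation.char_one ρ
    have h5 := h c₀ hc₀
    have h6 := Cfsg.Agent.Characters.SchurBound.norm_le hξ hd (e c₀)
    have h7 := Cfsg.Agent.Characters.SchurBound.norm_le hξ hd c₀
    rw [h4] at h5
    set D : ℕ := Module.finrank ℂ (Fin d → ℂ)
    have h8 : (ρ.character (e c₀)).re + (ρ.character c₀).re = 2 * D := by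
      have h9 : ρ.character (e c₀) + ρ.character c₀ = 2 * (D : ℂ) := by
        rw [h5, hd]; push_cast; ring
      have h10 := congrArg Complex.re h9
      simpa using h10
    have h9 : (ρ.character (e c₀)).re ≤ D := (Complex.re_le_norm _).trans h6
    have h10 : (ρ.character c₀).re ≤ D := (Complex.re_le_norm _).trans h7
    have h11 : (ρ.character c₀).re = D := by linarith
    apply hne
    rw [hd]
    have h12 : ‖ρ.character c₀‖ ≤ (ρ.character c₀).re := by rw [h11]; exact h7
    have h13 : (ρ.character c₀).im = 0 := by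
      have h14 := Complex.sq_norm (ρ.character c₀)
      rw [Complex.normSq_apply] at h14
      have h15 := norm_nonneg (ρ.character c₀)
      nlinarith [sq_nonneg (ρ.character c₀).im]
    apply Complex.ext
    · rw [h11]; simp
    · rw [h13]; simp

/-- **T13b** -/
theorem int_coeff {G : Type u} [Group G] [Finite G] {p : ℕ} [hp : Fact p.Prime] {M : Ideal AlgInt}
    (hM : IsPModular p M) (hC : OneClass p G) {x : G} (hx : PEl p x) (hx1 : x ≠ 1)
    {ξ : IrrCharacter (Subgroup.centralizer ({x} : Set G))}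
    (hξ : ξ ∈ principalBlock M (Subgroup.centralizer ({x} : Set G)))
    (hspan : ∀ ψ ∈ principalBlock M (Subgroup.centralizer ({x} : Set G)), ∃ m n : ℤ,
      ∀ h : Subgroup.centralizer ({x} : Set G), ¬ p ∣ orderOf h →
        (ψ : Subgroup.centralizer ({x} : Set G) → ℂ) h =
          m + n * (ξ : Subgroup.centralizer ({x} : Set G) → ℂ) h)
    (hne : ∃ h : Subgroup.centralizer ({x} : Set G), ¬ p ∣ orderOf h ∧
      (ξ : Subgroup.centralizer ({x} : Set G) → ℂ) h ≠
        (ξ : Subgroup.centralizer ({x} : Set G) → ℂ) 1)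
    {ζ : IrrCharacter G} (hζ : ζ ∈ principalBlock M G) :
    ∃ a b : ℤ, ∀ h : Subgroup.centralizer ({x} : Set G), ¬ p ∣ orderOf h →
      (ζ : G → ℂ) (x * h) = a + b * (ξ : Subgroup.centralizer ({x} : Set G) → ℂ) h := by
  obtain ⟨a, b, ha, hb, hab⟩ := Cfsg.Agent.H686.K4.integral hM hx hspan hζ
  obtain ⟨c₀, hc₀, hne0⟩ := id hne
  have h1reg : ¬ p ∣ orderOf (1 : Subgroup.centralizer ({x} : Set G)) := by
    rw [orderOf_one, Nat.dvd_one]; exact hp.out.ne_one
  -- the Galois action
  have key : ∀ σ : ℂ ≃+* ℂ, σ a = a ∧ σ b = b := by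
    intro σ
    obtain ⟨m, hm, hσ⟩ := Cfsg.Agent.Characters.GaloisBasic.exists_coprime_pow (σ : ℂ →+* ℂ)
      (Nat.card_pos (α := G)).ne'
    have hσG : ∀ g : G, σ ((ζ : G → ℂ) g) = (ζ : G → ℂ) (g ^ m) := fun g =>
      Cfsg.Agent.Characters.GaloisBasic.map_apply (σ : ℂ →+* ℂ) hσ (isIrr_isCharacter ζ.2)
        (Nat.card_pos (α := G)).ne' pow_card_eq_one'
    have hσC : ∀ c : Subgroup.centralizer ({x} : Set G),
        σ ((ξ : Subgroup.centralizer ({x} : Set G) → ℂ) c) = (ξ : Subgroup.centralizer ({x} : Set G) → ℂ) (c ^ m) :=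
      fun c => Cfsg.Agent.Characters.GaloisBasic.map_apply (σ : ℂ →+* ℂ) hσ (isIrr_isCharacter ξ.2)
        (Nat.card_pos (α := G)).ne' (by
          apply Subtype.ext
          rw [Subgroup.coe_pow, pow_card_eq_one', Subgroup.coe_one])
    -- `x ^ m` is conjugate to `x`
    have hxo : (orderOf x).Coprime m := (hm.coprime_dvd_right (orderOf_dvd_natCard x)).symm
    have hxm : orderOf (x ^ m) = orderOf x := hxo.orderOf_pow
    have hxm1 : x ^ m ≠ 1 := by
      intro h
      rw [h, orderOf_one] at hxm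
      exact hx1 (orderOf_eq_one_iff.1 hxm.symm)
    obtain ⟨n, hn⟩ := isConj_iff.1 (hC (x ^ m) x (by rw [hxm]; exact hx) hxm1 hx hx1)
    have hcent : ∀ g : G, g * x ^ m = x ^ m * g ↔ g * x = x * g := by
      intro g
      obtain ⟨i, hi⟩ := exists_pow_eq_self_of_coprime hxo.symm
      constructor
      · intro h
        have h1 : Commute g ((x ^ m) ^ i) := Commute.pow_right h i
        rw [hi] at h1
        exact h1
      · intro h
        exact (Commute.pow_right h m)
    have hmem : ∀ c : G, c ∈ Subgroup.centralizer ({x} : Set G) ↔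
        n * c * n⁻¹ ∈ Subgroup.centralizer ({x} : Set G) := by
      intro c
      rw [Subgroup.mem_centralizer_singleton_iff, Subgroup.mem_centralizer_singleton_iff, ← hcent c]
      conv_rhs => rw [← hn]
      constructor
      · intro h
        calc n * c * n⁻¹ * (n * x ^ m * n⁻¹) = n * (c * x ^ m) * n⁻¹ := by group
          _ = n * (x ^ m * c) * n⁻¹ := by rw [h]
          _ = n * x ^ m * n⁻¹ * (n * c * n⁻¹) := by group
      · intro h
        have h2 : n⁻¹ * (n * c * n⁻¹ * (n * x ^ m * n⁻¹)) * n = n⁻¹ * (n * x ^ m * n⁻¹ * (n * c * n⁻¹)) * n := by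
          rw [h]
        calc c * x ^ m = n⁻¹ * (n * c * n⁻¹ * (n * x ^ m * n⁻¹)) * n := by group
          _ = n⁻¹ * (n * x ^ m * n⁻¹ * (n * c * n⁻¹)) * n := h2
          _ = x ^ m * c := by group
    let e : MulAut (Subgroup.centralizer ({x} : Set G)) :=
      { toFun := fun c => ⟨n * c * n⁻¹, (hmem c).1 c.2⟩
        invFun := fun c => ⟨n⁻¹ * c * n, by
          rw [hmem]
          have : n * (n⁻¹ * (c : G) * n) * n⁻¹ = c := by group
          rw [this]
          exact c.2⟩
        left_inv := fun c => Subtype.ext (by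
          change n⁻¹ * (n * (c : G) * n⁻¹) * n = c
          group)
        right_inv := fun c => Subtype.ext (by
          change n * (n⁻¹ * (c : G) * n) * n⁻¹ = c
          group)
        map_mul' := fun c d => Subtype.ext (by
          change n * ((c : G) * d) * n⁻¹ = n * c * n⁻¹ * (n * d * n⁻¹)
          group) }
    -- the conjugate character
    have hmemB : Cfsg.Agent.H649.irrMap (e : _ ≃* _).symm ξ ∈
        principalBlock M (Subgroup.centralizer ({x} : Set G)) := by
      rw [← Cfsg.Agent.H649.blkMap_principalBlock (e : _ ≃* _).symm, Cfsg.Agent.H649.irrMap_mem_blkMap]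
      exact hξ
    obtain ⟨m₁, k, hmk⟩ := hspan _ hmemB
    have hfix : ∀ c : Subgroup.centralizer ({x} : Set G), ¬ p ∣ orderOf c →
        (ξ : Subgroup.centralizer ({x} : Set G) → ℂ) (e c) = (ξ : Subgroup.centralizer ({x} : Set G) → ℂ) c :=
      comp_eq e (isIrr_isCharacter ξ.2) (m := m₁) (k := k) (fun c hc => by
        rw [← hmk c hc]
        rfl) hne
    have hpowreg : ∀ c : Subgroup.centralizer ({x} : Set G), ¬ p ∣ orderOf c → ¬ p ∣ orderOf (c ^ m) :=
      fun c hc h => hc (h.trans (orderOf_pow_dvd m))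
    have hmain : ∀ c : Subgroup.centralizer ({x} : Set G), ¬ p ∣ orderOf c →
        σ a + σ b * σ ((ξ : Subgroup.centralizer ({x} : Set G) → ℂ) c) =
          a + b * σ ((ξ : Subgroup.centralizer ({x} : Set G) → ℂ) c) := by
      intro c hc
      rw [← map_mul, ← map_add, ← hab c hc, hσG, hσC]
      have hcx : (c : G) * x = x * c := Subgroup.mem_centralizer_singleton_iff.1 c.2
      have h1 : (x * (c : G)) ^ m = x ^ m * (c : G) ^ m := by
        have : Commute x (c : G) := hcx.symm
        exact this.mul_pow m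
      rw [h1]
      have h2 : (ζ : G → ℂ) (x ^ m * (c : G) ^ m) = (ζ : G → ℂ) (x * ((e (c ^ m) : Subgroup.centralizer ({x} : Set G)) : G)) := by
        have h3 : x * ((e (c ^ m) : Subgroup.centralizer ({x} : Set G)) : G) = n * (x ^ m * (c : G) ^ m) * n⁻¹ := by
          change x * (n * ((c ^ m : Subgroup.centralizer ({x} : Set G)) : G) * n⁻¹) = _
          rw [Subgroup.coe_pow]
          calc x * (n * (c : G) ^ m * n⁻¹) = (n * x ^ m * n⁻¹) * (n * (c : G) ^ m * n⁻¹) := by rw [hn]
            _ = _ := by group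
        rw [h3]
        exact (isIrr_isClassFunction ζ.2 _ n).symm
      rw [h2, hab _ (by
        have : orderOf (e (c ^ m)) = orderOf (c ^ m) :=
          orderOf_injective (e : _ ≃* _).toMonoidHom e.injective _
        rw [this]
        exact hpowreg c hc), hfix _ (hpowreg c hc)]
    have hm1 := hmain 1 h1reg
    have hm0 := hmain c₀ hc₀
    have hb' : σ b = b := by
      have h3 : (σ b - b) * (σ ((ξ : Subgroup.centralizer ({x} : Set G) → ℂ) c₀) -
          σ ((ξ : Subgroup.centralizer ({x} : Set G) → ℂ) 1)) = 0 := by linear_combination hm0 - hm1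
      rcases mul_eq_zero.1 h3 with h4 | h4
      · exact sub_eq_zero.1 h4
      · exact absurd (σ.injective (sub_eq_zero.1 h4)) hne0
    refine ⟨?_, hb'⟩
    rw [hb'] at hm1
    exact add_right_cancel hm1
  obtain ⟨a', ha'⟩ := Cfsg.Agent.Characters.GaloisBasic.exists_int_of_isIntegral ha
    (Cfsg.Agent.Characters.GaloisBasic.exists_rat_of_forall_ringEquiv ha.tower_top fun σ => (key σ).1)
  obtain ⟨b', hb'⟩ := Cfsg.Agent.Characters.GaloisBasic.exists_int_of_isIntegral hb
    (Cfsg.Agent.Characters.GaloisBasic.exists_rat_of_forall_ringEquiv hb.tower_top fun σ => (key σ).2)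
  exact ⟨a', b', fun h hh => by rw [hab h hh, ha', hb']⟩

end Cfsg.Agent.H667.K4
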