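import Cfsg.Agent.H634.CaseBDef
import Cfsg.Agent.H634.HypS
import Cfsg.Agent.H634.TwoB
import Cfsg.Agent.S0907
import Cfsg.Agent.Blocks.PrincipalKernel
import Cfsg.Agent.Blocks.PrincipalSection
import Cfsg.Agent.Blocks.PPart

/-!
# T14 of S4615: the four characters of the principal block are real (helper667)
-/

set_option autoImplicit false
set_option linter.style.haveILetI false

namespace Cfsg.Agent.H667.K4

open Cfsg
open Cfsg.Agent.Characters.Core Cfsg.Agent.Blocks
open Cfsg.Agent.H634.Fus Cfsg.Agent.H634.HypS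
open scoped ComplexConjugate

universe u

/-- the complex conjugate of an irreducible character -/
noncomputable def cj {G : Type u} [Group G] [Finite G] (χ : IrrCharacter G) : IrrCharacter G :=
  ⟨fun g => conj ((χ : G → ℂ) g), isIrr_conj χ.2⟩

theorem cj_mem {G : Type u} [Group G] [Finite G] {M : Ideal AlgInt} {χ : IrrCharacter G}
    (hχ : χ ∈ principalBlock M G) : cj χ ∈ principalBlock M G := by
  intro g
  have h1 := hχ g⁻¹
  have h2 : Subgroup.centralizer ({g⁻¹} : Set G) = Subgroup.centralizer ({g} : Set G) := by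
    ext x
    rw [Subgroup.mem_centralizer_singleton_iff, Subgroup.mem_centralizer_singleton_iff]
    constructor
    · intro hx
      have h3 : Commute x g⁻¹ := hx
      exact (Commute.inv_right_iff.1 h3).eq
    · intro hx
      have h3 : Commute x g := hx
      exact h3.inv_right.eq
  have h4 : ∀ y : G, (cj χ : G → ℂ) y = (χ : G → ℂ) y⁻¹ := fun y =>
    (isCharacter_apply_inv (isIrr_isCharacter χ.2) y).symm
  have h3 : centralChar (fun _ : G => (1 : ℂ)) g⁻¹ - centralChar (χ : G → ℂ) g⁻¹ =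
      centralChar (fun _ : G => (1 : ℂ)) g - centralChar (cj χ : G → ℂ) g := by
    unfold centralChar
    rw [h2, h4, h4, inv_one]
  rwa [h3] at h1

/-- a nontrivial irreducible character which is constant on the `p`-regular elements: if the nontrivial `p`-elements
are conjugate, `G` has a normal `p`-complement containing all `p`-regular elements -/
theorem exists_complement {G : Type u} [Group G] [Finite G] {p : ℕ} [hp : Fact p.Prime] (hC : OneClass p G)
    {χ : IrrCharacter G} (h1 : (χ : G → ℂ) ≠ fun _ => 1)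
    (h : ∀ g : G, ¬ p ∣ orderOf g → (χ : G → ℂ) g = (χ : G → ℂ) 1) :
    ∃ N : Subgroup G, N.Normal ∧ ¬ p ∣ Nat.card N ∧ ∀ g : G, ¬ p ∣ orderOf g → g ∈ N := by
  classical
  haveI := Fintype.ofFinite G
  obtain ⟨n, ρ, hρ, hχ⟩ := id χ.2
  have hdeg : ρ.character 1 = (Module.finrank ℂ (Fin n → ℂ) : ℂ) := Representation.char_one ρ
  set N : Subgroup G := ρ.ker with hN
  have hmem : ∀ g : G, g ∈ N ↔ (χ : G → ℂ) g = (χ : G → ℂ) 1 := by
    intro g
    rw [← hχ, hdeg, Characters.Values.character_eq_finrank_iff, hN, MonoidHom.mem_ker]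
    rfl
  have hreg : ∀ g : G, ¬ p ∣ orderOf g → g ∈ N := fun g hg => (hmem g).2 (h g hg)
  have hNt : N ≠ ⊤ := by
    intro ht
    have h2 : ∀ g : G, (χ : G → ℂ) g = (χ : G → ℂ) 1 := fun g => (hmem g).1 (ht ▸ Subgroup.mem_top g)
    have h3 := classInner_irr_ne χ.2 (Cfsg.Agent.Blocks.Basic.isIrrCharacter_one (G := G)) h1
    rw [classInner_def, Finset.sum_congr rfl fun g _ => by rw [h2 g, map_one, mul_one], Finset.sum_const,
      Finset.card_univ, nsmul_eq_mul, ← Nat.card_eq_fintype_card, ← mul_assoc,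
      inv_mul_cancel₀ card_ne_zero_complex, one_mul] at h3
    exact isIrr_apply_one_ne_zero χ.2 h3
  refine ⟨N, inferInstance, ?_, hreg⟩
  intro hdvd
  obtain ⟨y, hy⟩ := exists_prime_orderOf_dvd_card' (G := N) p hdvd
  have hy1 : (y : G) ≠ 1 := by
    intro h2
    rw [← Subgroup.orderOf_coe, h2, orderOf_one] at hy
    exact hp.out.one_lt.ne hy
  apply hNt
  rw [eq_top_iff]
  intro g _
  obtain ⟨a, b, rfl, hab, ha, hb⟩ := PPart.exists_isPPart p g
  refine N.mul_mem ?_ (hreg b hb)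
  by_cases ha1 : a = 1
  · rw [ha1]; exact N.one_mem
  · obtain ⟨c, hc⟩ := isConj_iff.1 (hC y a ⟨1, by rw [Subgroup.orderOf_coe, hy, pow_one]⟩ hy1 ha ha1)
    rw [← hc]
    exact (inferInstance : N.Normal).conj_mem y y.2 c

/-- the principal block of a `p`-nilpotent group has rank one -/
theorem blockRank_le_one {G : Type u} [Group G] [Finite G] {p : ℕ} [hp : Fact p.Prime] {M : Ideal AlgInt}
    (hM : IsPModular p M) (N : Subgroup G) [N.Normal] (hN : ¬ p ∣ Nat.card N)
    (hreg : ∀ g : G, ¬ p ∣ orderOf g → g ∈ N) : blockRank p (principalBlock M G) ≤ 1 := by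
  classical
  haveI := Fintype.ofFinite G
  have h1 : Submodule.span ℂ ((fun χ : IrrCharacter G => pRegularPart p (χ : G → ℂ)) '' principalBlock M G) ≤
      Submodule.span ℂ {pRegularPart p (fun _ : G => (1 : ℂ))} := by
    rw [Submodule.span_le]
    rintro _ ⟨χ, hχ, rfl⟩
    rw [SetLike.mem_coe, Submodule.mem_span_singleton]
    refine ⟨(χ : G → ℂ) 1, ?_⟩
    funext g
    rw [Pi.smul_apply, smul_eq_mul]
    unfold pRegularPart
    beta_reduce
    by_cases hg : IsPRegular p g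
    · rw [if_pos hg, if_pos hg, mul_one]
      exact (PrincipalKernel.principalBlock_apply_eq hM hN hχ (hreg g hg)).symm
    · rw [if_neg hg, if_neg hg, mul_zero]
  refine (Submodule.finrank_mono h1).trans ?_
  exact (finrank_span_le_card _).trans (by simp)

/-- **T14** -/
theorem real_block {G : Type u} [Group G] [Finite G] {p : ℕ} [hp : Fact p.Prime] {M : Ideal AlgInt}
    (hM : IsPModular p M) (hC : OneClass p G) (hk : Nat.card (principalBlock M G) = 4)
    (hl : blockRank p (principalBlock M G) = 2) {x : G} (hx : PEl p x) (hx1 : x ≠ 1)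
    {ξ : Subgroup.centralizer ({x} : Set G) → ℂ} (hreal : ∀ h, conj (ξ h) = ξ h)
    (hne : ∃ h : Subgroup.centralizer ({x} : Set G), ¬ p ∣ orderOf h ∧ ξ h ≠ ξ 1)
    (a b : IrrCharacter G → ℤ)
    (hab : ∀ ζ ∈ principalBlock M G, ∀ h : Subgroup.centralizer ({x} : Set G), ¬ p ∣ orderOf h →
      (ζ : G → ℂ) (x * h) = a ζ + b ζ * ξ h)
    (hb : ∃ ζ ∈ principalBlock M G, b ζ ≠ 0) :
    ∀ ζ ∈ principalBlock M G, ∀ g : G, conj ((ζ : G → ℂ) g) = (ζ : G → ℂ) g := by
  classical
  haveI := Local.isPrime_of_isPModular hM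
  by_contra hcon
  push Not at hcon
  obtain ⟨ζ₀, hζ₀, g₀, hg₀⟩ := hcon
  obtain ⟨h₀, hh₀, hξ⟩ := hne
  have h1reg : ¬ p ∣ orderOf (1 : Subgroup.centralizer ({x} : Set G)) := by
    rw [orderOf_one, Nat.dvd_one]; exact hp.out.ne_one
  haveI : Finite (IrrCharacter G) := finite_irr
  have hfin : (principalBlock M G).Finite := Set.toFinite _
  set S : Finset (IrrCharacter G) := hfin.toFinset with hS
  have hScard : S.card = 4 := by
    rw [← hk, Nat.card_coe_set_eq, Set.ncard_eq_toFinset_card _ hfin]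
  have hSmem : ∀ χ, χ ∈ S ↔ χ ∈ principalBlock M G := fun χ => hfin.mem_toFinset
  let o : IrrCharacter G := ⟨fun _ => 1, Cfsg.Agent.Blocks.Basic.isIrrCharacter_one⟩
  have ho : o ∈ principalBlock M G := PrincipalSection.one_mem_principalBlock
  have hne1 : cj ζ₀ ≠ ζ₀ := by
    intro h
    exact hg₀ (congrFun (congrArg Subtype.val h) g₀)
  have hne2 : o ≠ ζ₀ := by
    rintro rfl
    exact hg₀ (by change conj (1 : ℂ) = 1; rw [map_one])
  have hne3 : o ≠ cj ζ₀ := by
    intro h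
    apply hg₀
    have h2 := congrFun (congrArg Subtype.val h) g₀
    have h3 : (1 : ℂ) = conj ((ζ₀ : G → ℂ) g₀) := h2
    have h4 : (ζ₀ : G → ℂ) g₀ = 1 := by
      have := congrArg conj h3
      rw [map_one, Complex.conj_conj] at this
      exact this.symm
    rw [h4, map_one]
  -- the fourth character
  obtain ⟨ζ₂, hζ₂⟩ : ∃ ζ₂, S = {o, ζ₀, cj ζ₀, ζ₂} ∧ o ≠ ζ₂ ∧ ζ₀ ≠ ζ₂ ∧ cj ζ₀ ≠ ζ₂ := by
    have hsub : ({o, ζ₀, cj ζ₀} : Finset (IrrCharacter G)) ⊆ S := by
      intro χ hχ
      simp only [Finset.mem_insert, Finset.mem_singleton] at hχ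
      rcases hχ with rfl | rfl | rfl
      · exact (hSmem _).2 ho
      · exact (hSmem _).2 hζ₀
      · exact (hSmem _).2 (cj_mem hζ₀)
    have hc3 : ({o, ζ₀, cj ζ₀} : Finset (IrrCharacter G)).card = 3 := by
      rw [Finset.card_eq_three]
      exact ⟨o, ζ₀, cj ζ₀, hne2, hne3, hne1.symm, rfl⟩
    have hc1 : (S \ {o, ζ₀, cj ζ₀}).card = 1 := by
      rw [Finset.card_sdiff_of_subset hsub, hScard, hc3]
    obtain ⟨ζ₂, h2⟩ := Finset.card_eq_one.1 hc1
    have h3 : ζ₂ ∈ S \ {o, ζ₀, cj ζ₀} := by rw [h2]; exact Finset.mem_singleton_self _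
    rw [Finset.mem_sdiff] at h3
    simp only [Finset.mem_insert, Finset.mem_singleton, not_or] at h3
    refine ⟨ζ₂, ?_, fun h => h3.2.1 h.symm, fun h => h3.2.2.1 h.symm, fun h => h3.2.2.2 h.symm⟩
    rw [← Finset.sdiff_union_of_subset hsub, h2]
    ext χ
    simp only [Finset.mem_union, Finset.mem_insert, Finset.mem_singleton]
    tauto
  obtain ⟨hSeq, hn1, hn2, hn3⟩ := hζ₂
  have hζ₂B : ζ₂ ∈ principalBlock M G := by
    rw [← hSmem, hSeq]
    simp
  have hsum : ∀ f : IrrCharacter G → ℂ, ∑ᶠ χ ∈ principalBlock M G, f χ = f o + f ζ₀ + f (cj ζ₀) + f ζ₂ := by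
    intro f
    rw [finsum_mem_eq_finite_toFinset_sum _ hfin, ← hS, hSeq, Finset.sum_insert, Finset.sum_insert,
      Finset.sum_insert, Finset.sum_singleton]
    · ring
    · simpa using hn3
    · simp only [Finset.mem_insert, Finset.mem_singleton, not_or]
      exact ⟨hne1.symm, hn2⟩
    · simp only [Finset.mem_insert, Finset.mem_singleton, not_or]
      exact ⟨hne2, hne3, hn1⟩
  -- the coefficients
  have hlin : ∀ u v u' v' : ℂ, (∀ h : Subgroup.centralizer ({x} : Set G), ¬ p ∣ orderOf h →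
      u + v * ξ h = u' + v' * ξ h) → u = u' ∧ v = v' := by
    intro u v u' v' h
    have e1 := h 1 h1reg
    have e0 := h h₀ hh₀
    have hv : v = v' := by
      have : (v - v') * (ξ h₀ - ξ 1) = 0 := by linear_combination e0 - e1
      rcases mul_eq_zero.1 this with h5 | h5
      · exact sub_eq_zero.1 h5
      · exact absurd (sub_eq_zero.1 h5) hξ
    refine ⟨?_, hv⟩
    rw [hv] at e1
    exact add_right_cancel e1
  obtain ⟨hao, hbo⟩ := hlin (a o) (b o) 1 0 fun h hh => by
    rw [← hab o ho h hh]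
    change (1 : ℂ) = 1 + 0 * ξ h
    ring
  obtain ⟨ha3, hb3⟩ := hlin (a (cj ζ₀)) (b (cj ζ₀)) (a ζ₀) (b ζ₀) fun h hh => by
    rw [← hab _ (cj_mem hζ₀) h hh]
    change conj ((ζ₀ : G → ℂ) (x * h)) = _
    rw [hab _ hζ₀ h hh, map_add, map_mul, hreal, map_intCast, map_intCast]
  -- orthogonality
  have hpx : ∀ h : Subgroup.centralizer ({x} : Set G), ¬ p ∣ orderOf h → p ∣ orderOf (x * (h : G)) := by
    intro h hh
    obtain ⟨k, hkx⟩ := hx
    have hk0 : k ≠ 0 := by
      rintro rfl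
      rw [pow_zero, orderOf_eq_one_iff] at hkx
      exact hx1 hkx
    have hc : Commute x (h : G) := (Subgroup.mem_centralizer_singleton_iff.1 h.2).symm
    have hcop : (orderOf x).Coprime (orderOf (h : G)) := by
      rw [hkx, Subgroup.orderOf_coe]
      exact Nat.Coprime.pow_left k ((Nat.Prime.coprime_iff_not_dvd hp.out).2 hh)
    rw [hc.orderOf_mul_eq_mul_orderOf_of_coprime hcop, hkx]
    exact (dvd_pow_self p hk0).mul_right _
  have horth : ∀ g : G, ¬ p ∣ orderOf g →
      (1 + ((ζ₀ : G → ℂ) g + (cj ζ₀ : G → ℂ) g) * a ζ₀ + (ζ₂ : G → ℂ) g * a ζ₂ = 0) ∧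
      (((ζ₀ : G → ℂ) g + (cj ζ₀ : G → ℂ) g) * b ζ₀ + (ζ₂ : G → ℂ) g * b ζ₂ = 0) := by
    intro g hg
    refine hlin _ _ 0 0 fun h hh => ?_
    have e := Cfsg.Agent.S0907.result p M hM (principalBlock M G) PrincipalSection.isPBlock_principalBlock g
      (x * h) hg (hpx h hh)
    rw [hsum, hab _ ho h hh, hab _ hζ₀ h hh, hab _ (cj_mem hζ₀) h hh, hab _ hζ₂B h hh] at e
    simp only [map_add, map_mul, map_intCast, hreal] at e
    rw [hao, hbo, ha3, hb3] at e
    linear_combination e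
  -- the fourth character is constant on the `p`-regular elements
  have hconst : ∀ g : G, ¬ p ∣ orderOf g → (ζ₂ : G → ℂ) g = (ζ₂ : G → ℂ) 1 := by
    intro g hg
    have h1g : ¬ p ∣ orderOf (1 : G) := by
      rw [orderOf_one, Nat.dvd_one]; exact hp.out.ne_one
    obtain ⟨e1, e2⟩ := horth g hg
    obtain ⟨e3, e4⟩ := horth 1 h1g
    have e5 : ((ζ₂ : G → ℂ) g - (ζ₂ : G → ℂ) 1) * ((a ζ₂ : ℂ) * b ζ₀ - a ζ₀ * b ζ₂) = 0 := by
      linear_combination (b ζ₀ : ℂ) * e1 - (a ζ₀ : ℂ) * e2 - (b ζ₀ : ℂ) * e3 + (a ζ₀ : ℂ) * e4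
    rcases mul_eq_zero.1 e5 with h5 | h5
    · exact sub_eq_zero.1 h5
    · exfalso
      have hb0 : (b ζ₀ : ℂ) = 0 := by
        linear_combination (b ζ₀ : ℂ) * e3 - (a ζ₀ : ℂ) * e4 - (ζ₂ : G → ℂ) 1 * h5
      have hb2 : (b ζ₂ : ℂ) = 0 := by
        rw [hb0, mul_zero, zero_add] at e4
        rcases mul_eq_zero.1 e4 with h6 | h6
        · exact absurd h6 (isIrr_apply_one_ne_zero ζ₂.2)
        · exact h6
      obtain ⟨ζ, hζ, hbζ⟩ := hb
      apply hbζ
      rw [← hSmem, hSeq] at hζ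
      simp only [Finset.mem_insert, Finset.mem_singleton] at hζ
      have hbz : (b ζ : ℂ) = 0 := by
        rcases hζ with rfl | rfl | rfl | rfl
        · exact hbo
        · exact hb0
        · rw [hb3, hb0]
        · exact hb2
      exact_mod_cast hbz
  obtain ⟨N, hN1, hN2, hN3⟩ := exists_complement hC (χ := ζ₂) (fun h => hn1 (Subtype.ext h.symm)) hconst
  haveI := hN1
  have := blockRank_le_one hM N hN2 hN3
  omega

end Cfsg.Agent.H667.K4
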